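import Mathlib
import Cfsg.Agent.SLPres77.Steinberg
import Cfsg.Agent.S2286
import Cfsg.Agent.S0801

/-!
Short lists generating `SL₂` together with their images under exchanging the coordinates, and
`SL₃` together with the cyclic permutation.
-/

set_option autoImplicit false

namespace CfsgLib.SLPres77

open CfsgLib.SteinbergSL CfsgLib.SLThreePres CfsgLib.SLTwoPres
open CfsgLib.Psl2Unipotent (upperU diagA)

variable {F : Type*} [Field F]

theorem tv_zero' {ι : Type*} [Fintype ι] [DecidableEq ι] {i j : ι} (h : i ≠ j) :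
    tv i j (0 : F) = 1 := (slSys (ι := ι) (F := F)).x_zero h

theorem tv_add' {ι : Type*} [Fintype ι] [DecidableEq ι] {i j : ι} (h : i ≠ j) (a b : F) :
    tv i j (a + b) = tv i j a * tv i j b := ((slSys (ι := ι) (F := F)).add h a b).symm

theorem tv_inv' {ι : Type*} [Fintype ι] [DecidableEq ι] {i j : ι} (h : i ≠ j) (a : F) :
    (tv i j a)⁻¹ = tv i j (-a) := (slSys (ι := ι) (F := F)).x_inv h a

/-- Exchange the two coordinates. -/
def swapCoord : Matrix.SpecialLinearGroup (Fin 2) F →* Matrix.SpecialLinearGroup (Fin 2) F where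
  toFun g := ⟨!![g.1 1 1, g.1 1 0; g.1 0 1, g.1 0 0], by
    have h := g.det_coe
    rw [Matrix.det_fin_two] at h
    rw [Matrix.det_fin_two_of]
    linear_combination h⟩
  map_one' := Subtype.ext (by simp [Matrix.one_fin_two])
  map_mul' a b := Subtype.ext (by
    show _ = !![a.1 1 1, a.1 1 0; a.1 0 1, a.1 0 0] * !![b.1 1 1, b.1 1 0; b.1 0 1, b.1 0 0]
    rw [Matrix.mul_fin_two]
    simp [Matrix.mul_apply, Fin.sum_univ_two, add_comm])

@[simp] theorem swapCoord_coe (g : Matrix.SpecialLinearGroup (Fin 2) F) :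
    ((swapCoord g : Matrix.SpecialLinearGroup (Fin 2) F) : Matrix (Fin 2) (Fin 2) F) =
      !![g.1 1 1, g.1 1 0; g.1 0 1, g.1 0 0] := rfl

theorem swapCoord_swapCoord (g : Matrix.SpecialLinearGroup (Fin 2) F) :
    swapCoord (swapCoord g) = g :=
  Subtype.ext (by ext i j; fin_cases i <;> fin_cases j <;> rfl)

theorem swapCoord_tv (a : F) : swapCoord (tv (0 : Fin 2) 1 a) = tv 1 0 a := by
  apply Subtype.ext
  ext i j
  fin_cases i <;> fin_cases j <;>
    simp [tv, CfsgLib.Classical.Linear.transvection_apply]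

theorem upperU_eq_tv (a : F) : upperU a = tv (0 : Fin 2) 1 a := by
  apply Subtype.ext
  ext i j
  fin_cases i <;> fin_cases j <;>
    simp [tv, CfsgLib.Classical.Linear.transvection_apply]

theorem corner_tv01 (a : F) : corner (tv (0 : Fin 2) 1 a) = tv (0 : Fin 3) 1 a := by
  apply Subtype.ext
  ext i j
  fin_cases i <;> fin_cases j <;>
    simp [tv, CfsgLib.Classical.Linear.transvection_apply]

theorem corner_tv10 (a : F) : corner (tv (1 : Fin 2) 0 a) = tv (1 : Fin 3) 0 a := by
  apply Subtype.ext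
  ext i j
  fin_cases i <;> fin_cases j <;>
    simp [tv, CfsgLib.Classical.Linear.transvection_apply]

/-- The list together with its exchanged image generates. -/
def GenTwo (S : List (Matrix.SpecialLinearGroup (Fin 2) F)) : Prop :=
  Subgroup.closure ({g | g ∈ S} ∪ swapCoord '' {g | g ∈ S}) = ⊤

theorem swapCoord_mem (S : List (Matrix.SpecialLinearGroup (Fin 2) F))
    {g : Matrix.SpecialLinearGroup (Fin 2) F}
    (h : g ∈ Subgroup.closure ({g | g ∈ S} ∪ swapCoord '' {g | g ∈ S})) :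
    swapCoord g ∈ Subgroup.closure ({g | g ∈ S} ∪ swapCoord '' {g | g ∈ S}) := by
  have := Subgroup.mem_map_of_mem swapCoord h
  rw [MonoidHom.map_closure] at this
  refine Subgroup.closure_mono ?_ this
  rintro _ ⟨x, hx | ⟨y, hy, rfl⟩, rfl⟩
  · exact Or.inr ⟨x, hx, rfl⟩
  · rw [swapCoord_swapCoord]; exact Or.inl hy

theorem genTwo_of_upper [Fintype F] (S : List (Matrix.SpecialLinearGroup (Fin 2) F)) {ζ : Fˣ}
    (hζ : ∀ u : Fˣ, u ∈ Subgroup.zpowers ζ) {s0 : F} (hs0 : s0 ≠ 0)
    (hmem : upperU s0 ∈ Subgroup.closure ({g | g ∈ S} ∪ swapCoord '' {g | g ∈ S}))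
    {T : Matrix.SpecialLinearGroup (Fin 2) F}
    (hT : T ∈ Subgroup.closure ({g | g ∈ S} ∪ swapCoord '' {g | g ∈ S}))
    (hconj : ∀ s : F, T * upperU s * T⁻¹ = upperU ((ζ : F) ^ 2 * s)) : GenTwo S := by
  set K := Subgroup.closure ({g | g ∈ S} ∪ swapCoord '' {g | g ∈ S}) with hK
  have D := slData_matrix (F := F) ζ
  let A : AddSubgroup F :=
    { carrier := {t | upperU (t * s0) ∈ K}
      zero_mem' := by show upperU _ ∈ K; rw [zero_mul, D.x_zero]; exact K.one_mem
      add_mem' := fun {a b} ha hb => by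
        show upperU _ ∈ K; rw [add_mul, D.add]; exact K.mul_mem ha hb
      neg_mem' := fun {a} ha => by
        show upperU _ ∈ K; rw [neg_mul, D.x_neg]; exact K.inv_mem ha }
  have hall : ∀ t : F, upperU t ∈ K := by
    intro t
    have h := all_mem_of_mul_closed hζ 2 (Or.inl rfl) A (fun a ha => by
      show upperU _ ∈ K
      rw [mul_assoc, ← hconj]
      exact K.mul_mem (K.mul_mem hT ha) (K.inv_mem hT))
      (by show upperU _ ∈ K; rwa [one_mul]) (t / s0)
    change upperU (t / s0 * s0) ∈ K at h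
    rwa [div_mul_cancel₀ _ hs0] at h
  refine CfsgLib.Classical.Linear.eq_top_of_transvection_mem fun i j h a => ?_
  rw [← tv_ne h]
  have h01 : tv (0 : Fin 2) 1 a ∈ K := upperU_eq_tv a ▸ hall a
  fin_cases i <;> fin_cases j
  · exact absurd rfl h
  · exact h01
  · exact swapCoord_tv a ▸ swapCoord_mem S h01
  · exact absurd rfl h

theorem genTwo_even [Fintype F] {ζ : Fˣ} (hζ : ∀ u : Fˣ, u ∈ Subgroup.zpowers ζ) :
    GenTwo [upperU (1 : F), diagA ζ] :=
  genTwo_of_upper _ hζ one_ne_zero (Subgroup.subset_closure (Or.inl (by simp)))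
    (Subgroup.subset_closure (Or.inl (show diagA ζ ∈ [upperU (1 : F), diagA ζ] by simp)))
    (slData_matrix ζ).conj_x

/-- The triangular element used for the fields with four and nine elements. -/
def triangular (t : F) (ht : t * t = t + 1) : Matrix.SpecialLinearGroup (Fin 2) F :=
  ⟨!![t, t; 0, t - 1], by rw [Matrix.det_fin_two_of]; linear_combination ht⟩

@[simp] theorem triangular_coe (t : F) (ht : t * t = t + 1) :
    ((triangular t ht : Matrix.SpecialLinearGroup (Fin 2) F) : Matrix (Fin 2) (Fin 2) F) =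
      !![t, t; 0, t - 1] := rfl

theorem triangular_conj (t : F) (ht : t * t = t + 1) (s : F) :
    triangular t ht * upperU s * (triangular t ht)⁻¹ = upperU (t ^ 2 * s) := by
  rw [mul_inv_eq_iff_eq_mul]
  apply Subtype.ext
  ext i j
  fin_cases i <;> fin_cases j <;> simp [Matrix.mul_apply, Fin.sum_univ_two]
  linear_combination -(t * s) * ht

theorem genTwo_four [Fintype F] {ζ : Fˣ} (hζ : ∀ u : Fˣ, u ∈ Subgroup.zpowers ζ)
    (h2 : (2 : F) = 0) (ht : (ζ : F) * ζ = ζ + 1) : GenTwo [triangular (ζ : F) ht] := by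
  set h := triangular (ζ : F) ht
  set K := Subgroup.closure ({g | g ∈ [h]} ∪ swapCoord '' {g | g ∈ [h]})
  have hh : h ∈ K := Subgroup.subset_closure (Or.inl (by simp))
  have hk : swapCoord h ∈ K := swapCoord_mem _ hh
  refine genTwo_of_upper _ hζ one_ne_zero ?_ hh (triangular_conj _ ht)
  have e : h * swapCoord h * swapCoord h * h * swapCoord h = upperU 1 := by
    apply Subtype.ext
    simp only [Matrix.SpecialLinearGroup.coe_mul, h]
    ext i j
    fin_cases i <;> fin_cases j <;> simp [Matrix.mul_apply, Fin.sum_univ_two] <;>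
      grind
  rw [← e]
  exact K.mul_mem (K.mul_mem (K.mul_mem (K.mul_mem hh hk) hk) hh) hk

theorem genTwo_nine [Fintype F] {ζ : Fˣ} (hζ : ∀ u : Fˣ, u ∈ Subgroup.zpowers ζ)
    (h3 : (3 : F) = 0) (ht : (ζ : F) * ζ = ζ + 1) : GenTwo [triangular (ζ : F) ht] := by
  set h := triangular (ζ : F) ht
  set K := Subgroup.closure ({g | g ∈ [h]} ∪ swapCoord '' {g | g ∈ [h]})
  have hh : h ∈ K := Subgroup.subset_closure (Or.inl (by simp))
  have hk : swapCoord h ∈ K := swapCoord_mem _ hh
  refine genTwo_of_upper _ hζ (s0 := 2 * (ζ : F)) ?_ ?_ hh (triangular_conj _ ht)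
  · intro e
    rcases mul_eq_zero.1 e with e | e
    · exact one_ne_zero (show (1 : F) = 0 by linear_combination h3 - e)
    · exact ζ.ne_zero e
  have e : h * h * h * swapCoord h * swapCoord h * h * swapCoord h = upperU (2 * (ζ : F)) := by
    apply Subtype.ext
    simp only [Matrix.SpecialLinearGroup.coe_mul, h]
    ext i j
    fin_cases i <;> fin_cases j <;> simp [Matrix.mul_apply, Fin.sum_univ_two] <;>
      grind
  rw [← e]
  exact K.mul_mem (K.mul_mem (K.mul_mem (K.mul_mem (K.mul_mem (K.mul_mem hh hh) hh) hk) hk) hh) hk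

/-- Scaling the off-diagonal entries. -/
def scaleOff (s : Fˣ) : Matrix.SpecialLinearGroup (Fin 2) F →* Matrix.SpecialLinearGroup (Fin 2) F where
  toFun g := ⟨!![g.1 0 0, g.1 0 1 * s; g.1 1 0 * ((s⁻¹ : Fˣ) : F), g.1 1 1], by
    have h := g.det_coe
    rw [Matrix.det_fin_two] at h
    rw [Matrix.det_fin_two_of]
    have := s.mul_inv
    linear_combination h - g.1 0 1 * g.1 1 0 * this⟩
  map_one' := Subtype.ext (by simp [Matrix.one_fin_two])
  map_mul' a b := Subtype.ext (by
    show _ = !![a.1 0 0, a.1 0 1 * s; a.1 1 0 * ((s⁻¹ : Fˣ) : F), a.1 1 1] *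
      !![b.1 0 0, b.1 0 1 * s; b.1 1 0 * ((s⁻¹ : Fˣ) : F), b.1 1 1]
    rw [Matrix.mul_fin_two]
    simp [Matrix.mul_apply, Fin.sum_univ_two]
    refine ⟨⟨?_, ?_⟩, ?_, ?_⟩ <;> field_simp)

@[simp] theorem scaleOff_coe (s : Fˣ) (g : Matrix.SpecialLinearGroup (Fin 2) F) :
    ((scaleOff s g : Matrix.SpecialLinearGroup (Fin 2) F) : Matrix (Fin 2) (Fin 2) F) =
      !![g.1 0 0, g.1 0 1 * s; g.1 1 0 * ((s⁻¹ : Fˣ) : F), g.1 1 1] := rfl

theorem scaleOff_injective (s : Fˣ) : Function.Injective (scaleOff s) := by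
  intro a b h
  have h' := congrArg (fun g : Matrix.SpecialLinearGroup (Fin 2) F => g.1) h
  apply Subtype.ext
  ext i j
  have := congrFun₂ h' i j
  fin_cases i <;> fin_cases j <;> simpa using this

theorem genTwo_odd [Fintype F] (p : ℕ) [Fact p.Prime] [Algebra (ZMod p) F] {ζ : Fˣ}
    (hζ : ∀ u : Fˣ, u ∈ Subgroup.zpowers ζ) (h2 : (2 : F) ≠ 0) (h9 : Fintype.card F ≠ 9) :
    GenTwo [upperU (ζ : F)] := by
  have hgen : Subfield.closure ({(ζ : F) ^ 2} : Set F) = ⊤ := by
    rw [eq_top_iff]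
    intro x hxt
    clear hxt
    have hx : x ∈ Algebra.adjoin (ZMod p) {(ζ : F) ^ 2} :=
      (Cfsg.Agent.S2286.adjoin_sq_eq_top (p := p) hζ) ▸ Algebra.mem_top
    induction hx using Algebra.adjoin_induction with
    | mem y hy => exact Subfield.subset_closure hy
    | algebraMap r => rw [← ZMod.natCast_zmod_val r, map_natCast]; exact natCast_mem _ _
    | add y z _ _ hy hz => exact add_mem hy hz
    | mul y z _ _ hy hz => exact mul_mem hy hz
  obtain ⟨hD, -⟩ | ⟨h, -⟩ := Cfsg.Agent.S0801.result h2 ((ζ : F) ^ 2) (pow_ne_zero 2 ζ.ne_zero) hgen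
  swap
  · exact absurd h h9
  set K := Subgroup.closure ({g | g ∈ [upperU (ζ : F)]} ∪ swapCoord '' {g | g ∈ [upperU (ζ : F)]})
  have hh : upperU (ζ : F) ∈ K := Subgroup.subset_closure (Or.inl (by simp))
  have hmap : K.map (scaleOff ζ) = ⊤ := by
    rw [eq_top_iff, ← hD, Subgroup.closure_le]
    rintro g (hg | hg)
    · refine ⟨_, swapCoord_mem _ hh, Subtype.ext ?_⟩
      rw [hg]
      simp
    · refine ⟨_, hh, Subtype.ext ?_⟩
      rw [hg]
      simp [pow_two]
  show K = ⊤
  rw [← Subgroup.comap_map_eq_self_of_injective (scaleOff_injective ζ) K, hmap,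
    Subgroup.comap_top]

/-- The element `diag (ζ, ζ⁻², ζ)`. -/
def torusThree (ζ : Fˣ) : Matrix.SpecialLinearGroup (Fin 3) F :=
  ⟨!![(ζ : F), 0, 0; 0, (((ζ ^ 2)⁻¹ : Fˣ) : F), 0; 0, 0, (ζ : F)], by
    simp [Matrix.det_fin_three]
    field_simp⟩

@[simp] theorem torusThree_coe (ζ : Fˣ) :
    ((torusThree ζ : Matrix.SpecialLinearGroup (Fin 3) F) : Matrix (Fin 3) (Fin 3) F) =
      !![(ζ : F), 0, 0; 0, (((ζ ^ 2)⁻¹ : Fˣ) : F), 0; 0, 0, (ζ : F)] := rfl

theorem torusThree_tv (ζ : Fˣ) (a : F) :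
    torusThree ζ * tv 0 1 a = tv 0 1 ((ζ : F) ^ 3 * a) * torusThree ζ ∧
      torusThree ζ * tv 0 2 a = tv 0 2 a * torusThree ζ := by
  constructor <;> apply Subtype.ext <;> ext i j <;> fin_cases i <;> fin_cases j <;>
    simp [tv, Matrix.mul_apply, Fin.sum_univ_three,
      CfsgLib.Classical.Linear.transvection_apply] <;> field_simp

theorem torusThree_pow (ζ : Fˣ) [Fintype F] :
    torusThree ζ ^ (Fintype.card F - 1) = 1 := by
  have h : ∀ k : ℕ, ((torusThree ζ ^ k : Matrix.SpecialLinearGroup (Fin 3) F) :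
      Matrix (Fin 3) (Fin 3) F) =
      Matrix.diagonal ![(ζ : F) ^ k, ((((ζ ^ 2)⁻¹ : Fˣ) : F)) ^ k, (ζ : F) ^ k] := by
    intro k
    induction k with
    | zero => ext i j; fin_cases i <;> fin_cases j <;> simp
    | succ k ih =>
      rw [pow_succ, Matrix.SpecialLinearGroup.coe_mul, ih]
      ext i j
      fin_cases i <;> fin_cases j <;>
        simp [Matrix.mul_apply, Fin.sum_univ_three, pow_succ]
  apply Subtype.ext
  rw [h, FiniteField.pow_card_sub_one_eq_one _ ζ.ne_zero,
    FiniteField.pow_card_sub_one_eq_one _ (Units.ne_zero _)]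
  ext i j
  fin_cases i <;> fin_cases j <;> simp

/-- The list together with the cycle generates. -/
def GenThree (S : List (Matrix.SpecialLinearGroup (Fin 3) F)) : Prop :=
  Subgroup.closure ({g | g ∈ S} ∪ {cycleSL}) = ⊤

theorem cycleSL_tv {r s : Fin 3} (h : r ≠ s) (a : F) :
    cycleSL * tv r s a * cycleSL⁻¹ = tv (r + 1) (s + 1) a := by
  have h' : r + 1 ≠ s + 1 := fun e => h (add_right_cancel e)
  rw [mul_inv_eq_iff_eq_mul, tv_ne h, tv_ne h']
  refine CfsgLib.SLRegGen.conj_transvection _ h h' a a 1 1 ?_ ?_ rfl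
  · funext k
    rw [Matrix.mulVec_single_one]
    fin_cases r <;> fin_cases k <;> simp [cycleSL]
  · funext k
    rw [Matrix.single_one_vecMul]
    fin_cases s <;> fin_cases k <;> simp [cycleSL]

section Three

variable (S : List (Matrix.SpecialLinearGroup (Fin 3) F))

/-- The subgroup generated by the list and the cycle. -/
def span3 : Subgroup (Matrix.SpecialLinearGroup (Fin 3) F) :=
  Subgroup.closure ({g | g ∈ S} ∪ {cycleSL})

theorem rot_mem {r s : Fin 3} (h : r ≠ s) {a : F} (ha : tv r s a ∈ span3 S) :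
    tv (r + 1) (s + 1) a ∈ span3 S := by
  rw [← cycleSL_tv h]
  have hc : (cycleSL : Matrix.SpecialLinearGroup (Fin 3) F) ∈ span3 S :=
    Subgroup.subset_closure (Or.inr rfl)
  exact Subgroup.mul_mem _ (Subgroup.mul_mem _ hc ha) (Subgroup.inv_mem _ hc)

theorem comm_mem {r s t : Fin 3} (h1 : r ≠ s) (h2 : s ≠ t) (h3 : r ≠ t) {a b : F}
    (ha : tv r s a ∈ span3 S) (hb : tv s t b ∈ span3 S) : tv r t (a * b) ∈ span3 S := by
  rw [show tv r t (a * b) = tv r s a * tv s t b * (tv r s a)⁻¹ * (tv s t b)⁻¹ from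
    ((slSys (ι := Fin 3) (F := F)).chev h1 h2 h3 a b).symm]
  exact Subgroup.mul_mem _ (Subgroup.mul_mem _ (Subgroup.mul_mem _ ha hb) (Subgroup.inv_mem _ ha))
    (Subgroup.inv_mem _ hb)

theorem genThree_of_all (h02 : ∀ a : F, tv (0 : Fin 3) 2 a ∈ span3 S) : GenThree S := by
  have h10 : ∀ a, tv (1 : Fin 3) 0 a ∈ span3 S := fun a => rot_mem S (by decide) (h02 a)
  have h21 : ∀ a, tv (2 : Fin 3) 1 a ∈ span3 S := fun a => rot_mem S (by decide) (h10 a)
  have h12 : ∀ a, tv (1 : Fin 3) 2 a ∈ span3 S := fun a => by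
    simpa using comm_mem S (by decide) (by decide) (by decide) (h10 a) (h02 1)
  have h20 : ∀ a, tv (2 : Fin 3) 0 a ∈ span3 S := fun a => rot_mem S (by decide) (h12 a)
  have h01 : ∀ a, tv (0 : Fin 3) 1 a ∈ span3 S := fun a => rot_mem S (by decide) (h20 a)
  refine CfsgLib.Classical.Linear.eq_top_of_transvection_mem fun i j h a => ?_
  rw [← tv_ne h]
  fin_cases i <;> fin_cases j
  · exact absurd rfl h
  · exact h01 a
  · exact h02 a
  · exact h10 a
  · exact absurd rfl h
  · exact h12 a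
  · exact h20 a
  · exact h21 a
  · exact absurd rfl h

end Three

theorem genThree_four [Fintype F] {ζ : Fˣ} (hspan : ∀ K : AddSubgroup F, (1 : F) ∈ K →
    (ζ : F) ∈ K → ∀ t, t ∈ K) : GenThree [tv (0 : Fin 3) 2 (1 : F), tv 0 2 (ζ : F)] := by
  refine genThree_of_all _ fun a => ?_
  set K := span3 [tv (0 : Fin 3) 2 (1 : F), tv 0 2 (ζ : F)] with hK
  let A : AddSubgroup F :=
    { carrier := {t | tv (0 : Fin 3) 2 t ∈ K}
      zero_mem' := by
        show tv _ _ _ ∈ K
        rw [tv_zero' (by decide)]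
        exact K.one_mem
      add_mem' := fun {a b} ha hb => by
        show tv _ _ _ ∈ K
        rw [tv_add' (by decide)]
        exact K.mul_mem ha hb
      neg_mem' := fun {a} ha => by
        show tv _ _ _ ∈ K
        rw [← tv_inv' (by decide)]
        exact K.inv_mem ha }
  exact hspan A (Subgroup.subset_closure (Or.inl (by simp)))
    (Subgroup.subset_closure (Or.inl (by simp))) a

theorem genThree_generic [Fintype F] {ζ : Fˣ} (hζ : ∀ u : Fˣ, u ∈ Subgroup.zpowers ζ)
    (h4 : Fintype.card F ≠ 4) : GenThree [torusThree ζ * tv (0 : Fin 3) 2 1] := by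
  set g := torusThree ζ * tv (0 : Fin 3) 2 1 with hg
  set K := span3 [g] with hK
  have hgK : g ∈ K := Subgroup.subset_closure (Or.inl (by simp))
  have hpow : ∀ k : ℕ, tv (0 : Fin 3) 2 (1 : F) ^ k = tv 0 2 (k : F) := by
    intro k
    induction k with
    | zero =>
      rw [pow_zero, Nat.cast_zero]
      exact (tv_zero' (by decide)).symm
    | succ k ih =>
      rw [pow_succ, ih, Nat.cast_succ]
      exact (tv_add' (by decide) _ _).symm
  have hm1 : g ^ (Fintype.card F - 1) = tv (0 : Fin 3) 2 (-1 : F) := by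
    rw [hg, (show Commute (torusThree ζ) (tv (0 : Fin 3) 2 (1 : F)) from
      (torusThree_tv ζ 1).2).mul_pow, torusThree_pow, one_mul, hpow,
      Nat.cast_sub Fintype.card_pos, Nat.cast_one, FiniteField.cast_card_eq_zero, zero_sub]
  have h1 : tv (0 : Fin 3) 2 (1 : F) ∈ K := by
    have := K.inv_mem (K.pow_mem hgK (Fintype.card F - 1))
    rw [hm1] at this
    rwa [tv_inv' (by decide), neg_neg] at this
  have hT : torusThree ζ ∈ K := by
    have := K.mul_mem hgK (K.inv_mem h1)
    rwa [hg, mul_inv_cancel_right] at this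
  have h10 : tv (1 : Fin 3) 0 (1 : F) ∈ K := rot_mem _ (by decide) h1
  have h12 : tv (1 : Fin 3) 2 (1 : F) ∈ K := by
    simpa using comm_mem _ (by decide) (by decide) (by decide) h10 h1
  have h20 : tv (2 : Fin 3) 0 (1 : F) ∈ K := rot_mem _ (by decide) h12
  have h01 : tv (0 : Fin 3) 1 (1 : F) ∈ K := rot_mem _ (by decide) h20
  let A : AddSubgroup F :=
    { carrier := {t | tv (0 : Fin 3) 1 t ∈ K}
      zero_mem' := by
        show tv _ _ _ ∈ K
        rw [tv_zero' (by decide)]
        exact K.one_mem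
      add_mem' := fun {a b} ha hb => by
        show tv _ _ _ ∈ K
        rw [tv_add' (by decide)]
        exact K.mul_mem ha hb
      neg_mem' := fun {a} ha => by
        show tv _ _ _ ∈ K
        rw [← tv_inv' (by decide)]
        exact K.inv_mem ha }
  have hall : ∀ a, tv (0 : Fin 3) 1 a ∈ K := all_mem_of_mul_closed hζ 3 (Or.inr ⟨rfl, h4⟩) A
    (fun a ha => by
      show tv _ _ _ ∈ K
      rw [show tv (0 : Fin 3) 1 ((ζ : F) ^ 3 * a) = torusThree ζ * tv 0 1 a * (torusThree ζ)⁻¹ from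
        eq_mul_inv_of_mul_eq (torusThree_tv ζ a).1.symm]
      exact K.mul_mem (K.mul_mem hT ha) (K.inv_mem hT)) h01
  refine genThree_of_all _ fun a => ?_
  simpa using comm_mem _ (by decide) (by decide) (by decide) (hall a) h12

end CfsgLib.SLPres77
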