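import Mathlib
import Cfsg.Agent.SLPres77.Alt
import Cfsg.Agent.SLPres77.Amalgam
import Cfsg.Agent.SLPres77.SLGens
import Cfsg.Agent.AltPres54.Small
import Cfsg.Agent.S2287

/-!
The short presentations of `SL_n` and `PSL_n`.
-/

set_option autoImplicit false

open Equiv

namespace CfsgLib.SLPres77

open CfsgLib.SteinbergSL CfsgLib.SLThreePres CfsgLib.AltPres54
open CfsgLib.FreeGroupLaws (altToSL)
open CfsgLib.Psl2Unipotent (upperU diagA)

variable {F : Type*} [Field F] {n : ℕ}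

section Derive

variable {G : Type*} [Group G] {rho : alternatingGroup (Fin n) →* G}
  {lam : Matrix.SpecialLinearGroup (Fin 3) F →* G}

theorem glue_of (hn : 4 ≤ n) (c : alternatingGroup (Fin n))
    (hc : ∀ r : Fin 3, c.1 (pt3 hn r) = pt3 hn (r + 1))
    (hcfix : ∀ x, (∀ r, x ≠ pt3 hn r) → c.1 x = x) (hlc : lam cycleSL = rho c)
    (e : alternatingGroup (Fin n)) (he0 : e.1 (pt hn 0) = pt hn 1) (he1 : e.1 (pt hn 1) = pt hn 0)
    (S2 : List (Matrix.SpecialLinearGroup (Fin 2) F)) (hS2 : GenTwo S2)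
    (hflip : ∀ h ∈ S2, rho e * lam (corner h) * (rho e)⁻¹ = lam (corner (swapCoord h)))
    (hcent : ∀ z : alternatingGroup (Fin n), z.1 (pt hn 0) = pt hn 0 → z.1 (pt hn 1) = pt hn 1 →
      ∀ h ∈ S2, Commute (rho z) (lam (corner h)))
    (hdisj : (∀ z : alternatingGroup (Fin n), z.1 (pt hn 0) = pt hn 0 → z.1 (pt hn 1) = pt hn 1 →
      ∀ a, Commute (rho z) (lam (tv 0 1 a))) → ∀ τ : alternatingGroup (Fin n),
      (τ.1 (pt hn 0) = pt hn 2 ∧ τ.1 (pt hn 1) = pt hn 3) ∨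
        (τ.1 (pt hn 0) = pt hn 3 ∧ τ.1 (pt hn 1) = pt hn 2) →
      Commute (lam (tv 0 1 1)) (rho τ * lam (tv 0 1 1) * (rho τ)⁻¹)) :
    Glue hn rho lam := by
  have hcentSwap : ∀ z : alternatingGroup (Fin n), z.1 (pt hn 0) = pt hn 0 →
      z.1 (pt hn 1) = pt hn 1 → ∀ h ∈ S2, Commute (rho z) (lam (corner (swapCoord h))) := by
    intro z z0 z1 h hh
    have hi : ∀ x y, e.1 x = y → (e.1⁻¹ : Perm (Fin n)) y = x := fun x y h => Perm.inv_eq_iff_eq.2 h.symm
    have h' := hcent (e⁻¹ * z * e)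
      (by simp only [Subgroup.coe_mul, Subgroup.coe_inv, Perm.mul_apply, he0, z1]; exact hi _ _ he0)
      (by simp only [Subgroup.coe_mul, Subgroup.coe_inv, Perm.mul_apply, he1, z0]; exact hi _ _ he1)
      h hh
    have h'' := h'.map (MulAut.conj (rho e)).toMonoidHom
    simp only [MulEquiv.toMonoidHom_eq_coe, MonoidHom.coe_coe, MulAut.conj_apply, map_mul, map_inv,
      hflip h hh] at h''
    convert h'' using 1
    group
  have hall : ∀ z : alternatingGroup (Fin n), z.1 (pt hn 0) = pt hn 0 →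
      z.1 (pt hn 1) = pt hn 1 → ∀ x, Commute (rho z) (lam (corner x)) := by
    intro z z0 z1 x
    let K : Subgroup (Matrix.SpecialLinearGroup (Fin 2) F) :=
      (Subgroup.centralizer {rho z}).comap (lam.comp corner)
    suffices h : Subgroup.closure ({g | g ∈ S2} ∪ swapCoord '' {g | g ∈ S2}) ≤ K by
      have hx : x ∈ K := h (hS2.symm ▸ Subgroup.mem_top x)
      exact Subgroup.mem_centralizer_singleton_iff.1 hx |>.symm
    rw [Subgroup.closure_le]
    rintro g (hg | ⟨h, hh, rfl⟩)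
    · exact Subgroup.mem_centralizer_singleton_iff.2 (hcent z z0 z1 g hg).symm
    · exact Subgroup.mem_centralizer_singleton_iff.2 (hcentSwap z z0 z1 h hh).symm
  have hcent01 : ∀ z : alternatingGroup (Fin n), z.1 (pt hn 0) = pt hn 0 →
      z.1 (pt hn 1) = pt hn 1 → ∀ a, Commute (rho z) (lam (tv 0 1 a)) := fun z z0 z1 a => by
    rw [← corner_tv01]; exact hall z z0 z1 _
  refine ⟨⟨c, hc, hcfix, hlc.symm⟩, hcent01, ⟨e, he0, he1, fun a => ?_⟩, hdisj hcent01⟩
  have hee : ∀ x, Commute (rho (e * e)) (lam (corner x)) := hall _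
    (by simp only [Subgroup.coe_mul, Perm.mul_apply, he0, he1])
    (by simp only [Subgroup.coe_mul, Perm.mul_apply, he0, he1])
  have key : ((MulAut.conj (rho e)).toMonoidHom.comp (lam.comp corner)) =
      (lam.comp corner).comp swapCoord := by
    refine MonoidHom.eq_of_eqOn_top ?_
    rw [← hS2]
    refine MonoidHom.eqOn_closure ?_
    rintro g (hg | ⟨h, hh, rfl⟩)
    · exact hflip g hg
    · simp only [MonoidHom.comp_apply, MulEquiv.toMonoidHom_eq_coe, MonoidHom.coe_coe,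
        MulAut.conj_apply, swapCoord_swapCoord]
      rw [← hflip h hh]
      conv_rhs => rw [← mul_inv_eq_iff_eq_mul.2 (hee h).eq, map_mul]
      group
  have := DFunLike.congr_fun key (tv 0 1 a)
  simpa [swapCoord_tv, corner_tv01, corner_tv10] using this

/-- Conjugates by permutations agreeing on the two points are equal. -/
theorem conj_eq_of_agree (hn : 4 ≤ n)
    (hcent : ∀ z : alternatingGroup (Fin n), z.1 (pt hn 0) = pt hn 0 → z.1 (pt hn 1) = pt hn 1 →
      ∀ a, Commute (rho z) (lam (tv 0 1 a))) {σ τ : alternatingGroup (Fin n)}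
    (h0 : σ.1 (pt hn 0) = τ.1 (pt hn 0)) (h1 : σ.1 (pt hn 1) = τ.1 (pt hn 1)) :
    rho σ * lam (tv 0 1 1) * (rho σ)⁻¹ = rho τ * lam (tv 0 1 1) * (rho τ)⁻¹ := by
  have h := hcent (τ⁻¹ * σ) (by simp [Perm.mul_apply, h0]) (by simp [Perm.mul_apply, h1]) 1
  rw [map_mul, map_inv] at h
  calc rho σ * lam (tv 0 1 1) * (rho σ)⁻¹
      = rho τ * ((rho τ)⁻¹ * rho σ * lam (tv 0 1 1)) * (rho σ)⁻¹ := by group
    _ = _ := by rw [h.eq]; group

end Derive

theorem exists_c (hn : 4 ≤ n) : ∃ c : alternatingGroup (Fin n),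
    (∀ r : Fin 3, c.1 (pt3 hn r) = pt3 hn (r + 1)) ∧
      ∀ x, (∀ r, x ≠ pt3 hn r) → c.1 x = x := by
  have h01 := (pt3_inj hn).ne (show (0 : Fin 3) ≠ 1 by decide)
  have h12 := (pt3_inj hn).ne (show (1 : Fin 3) ≠ 2 by decide)
  have h02 := (pt3_inj hn).ne (show (0 : Fin 3) ≠ 2 by decide)
  refine ⟨⟨tri (pt3 hn 0) (pt3 hn 1) (pt3 hn 2), sign_tri h01 h12⟩, fun r => ?_,
    fun x hx => tri_other (hx 0) (hx 1) (hx 2)⟩
  fin_cases r
  · exact tri_a h01 h02
  · exact tri_b h12 h02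
  · exact tri_i

section Model

variable [Fintype F]

theorem model_commute (hn : 4 ≤ n) (z : alternatingGroup (Fin n))
    (hz : ∀ r : Fin 3, z.1 (pt3 hn r) = pt3 hn r)
    {E : Matrix.SpecialLinearGroup (Fin 3) F →* Matrix.SpecialLinearGroup (Fin n) F}
    (hE : ∀ r s (_ : r ≠ s) (a : F), E (tv r s a) = tv (pt3 hn r) (pt3 hn s) a)
    (g : Matrix.SpecialLinearGroup (Fin 3) F) : Commute (altToSL n F z) (E g) := by
  have h : (MulAut.conj (altToSL n F z)).toMonoidHom.comp E = E :=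
    CfsgLib.Classical.Linear.sl_hom_ext fun r s h a => by
      simp only [MonoidHom.comp_apply, MulEquiv.toMonoidHom_eq_coe, MonoidHom.coe_coe,
        MulAut.conj_apply, ← tv_ne h]
      rw [hE r s h, altToSL_conj z ((pt3_inj hn).ne h), hz, hz]
  exact mul_inv_eq_iff_eq_mul.1 (DFunLike.congr_fun h g)

theorem model_corner (hn : 4 ≤ n)
    {E : Matrix.SpecialLinearGroup (Fin 3) F →* Matrix.SpecialLinearGroup (Fin n) F}
    (hE : ∀ r s (_ : r ≠ s) (a : F), E (tv r s a) = tv (pt3 hn r) (pt3 hn s) a) :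
    (∀ z : alternatingGroup (Fin n), z.1 (pt hn 0) = pt hn 0 → z.1 (pt hn 1) = pt hn 1 →
      ∀ g, Commute (altToSL n F z) (E (corner g))) ∧
    ∀ e : alternatingGroup (Fin n), e.1 (pt hn 0) = pt hn 1 → e.1 (pt hn 1) = pt hn 0 →
      ∀ g, altToSL n F e * E (corner g) * (altToSL n F e)⁻¹ = E (corner (swapCoord g)) := by
  have h10 : ∀ a : F, swapCoord (tv (1 : Fin 2) 0 a) = tv 0 1 a := fun a => by
    rw [← swapCoord_tv, swapCoord_swapCoord]
  have hp0 : pt3 hn 0 = pt hn 0 := rfl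
  have hp1 : pt3 hn 1 = pt hn 1 := rfl
  have hne : pt hn 0 ≠ pt hn 1 := pt_ne hn (by decide)
  have main : ∀ (z : alternatingGroup (Fin n))
      (σ : Matrix.SpecialLinearGroup (Fin 2) F →* Matrix.SpecialLinearGroup (Fin 2) F),
      (∀ a, altToSL n F z * E (tv 0 1 a) * (altToSL n F z)⁻¹ = E (corner (σ (tv 0 1 a)))) →
      (∀ a, altToSL n F z * E (tv 1 0 a) * (altToSL n F z)⁻¹ = E (corner (σ (tv 1 0 a)))) →
      ∀ g, altToSL n F z * E (corner g) * (altToSL n F z)⁻¹ = E (corner (σ g)) := by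
    intro z σ ha hb
    refine DFunLike.congr_fun (f := (MulAut.conj (altToSL n F z)).toMonoidHom.comp (E.comp corner))
      (g := E.comp (corner.comp σ)) (CfsgLib.Classical.Linear.sl_hom_ext fun r s h a => ?_)
    simp only [MonoidHom.comp_apply, MulEquiv.toMonoidHom_eq_coe, MonoidHom.coe_coe,
      MulAut.conj_apply, ← tv_ne h]
    fin_cases r <;> fin_cases s
    · exact absurd rfl h
    · exact (by rw [corner_tv01]; exact ha a :
        altToSL n F z * E (corner (tv (0 : Fin 2) 1 a)) * (altToSL n F z)⁻¹ =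
          E (corner (σ (tv (0 : Fin 2) 1 a))))
    · exact (by rw [corner_tv10]; exact hb a :
        altToSL n F z * E (corner (tv (1 : Fin 2) 0 a)) * (altToSL n F z)⁻¹ =
          E (corner (σ (tv (1 : Fin 2) 0 a))))
    · exact absurd rfl h
  refine ⟨fun z z0 z1 g => ?_, fun e e0 e1 g => ?_⟩
  · refine mul_inv_eq_iff_eq_mul.1 (main z (MonoidHom.id _) (fun a => ?_) (fun a => ?_) g)
    · rw [MonoidHom.id_apply, corner_tv01, hE 0 1 (by decide), hp0, hp1, altToSL_conj z hne, z0, z1]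
    · rw [MonoidHom.id_apply, corner_tv10, hE 1 0 (by decide), hp0, hp1, altToSL_conj z hne.symm, z0,
        z1]
  · refine main e swapCoord (fun a => ?_) (fun a => ?_) g
    · rw [swapCoord_tv, corner_tv10, hE 0 1 (by decide), hE 1 0 (by decide), hp0, hp1,
        altToSL_conj e hne, e0, e1]
    · rw [h10, corner_tv01, hE 0 1 (by decide), hE 1 0 (by decide), hp0, hp1,
        altToSL_conj e hne.symm, e0, e1]

end Model

/-- Gluing presentations of `A_n` and `SL₃`. -/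
theorem sl_pres [Fintype F] {m : ℕ} (hn : 4 ≤ n) (RA : Finset (FreeGroup (Fin m)))
    (eA : PresentedGroup (↑RA : Set (FreeGroup (Fin m))) ≃* alternatingGroup (Fin n))
    (RB : Finset (FreeGroup (Fin 4)))
    (eB : PresentedGroup (↑RB : Set (FreeGroup (Fin 4))) ≃* Matrix.SpecialLinearGroup (Fin 3) F)
    (e : alternatingGroup (Fin n)) (he0 : e.1 (pt hn 0) = pt hn 1) (he1 : e.1 (pt hn 1) = pt hn 0)
    (S2 : List (Matrix.SpecialLinearGroup (Fin 2) F)) (hS2 : GenTwo S2)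
    (Z : List (alternatingGroup (Fin n) × Matrix.SpecialLinearGroup (Fin 3) F))
    (T : List (alternatingGroup (Fin n)))
    (hZ : ∀ (E : Matrix.SpecialLinearGroup (Fin 3) F →* Matrix.SpecialLinearGroup (Fin n) F),
      (∀ r s (_ : r ≠ s) (a : F), E (tv r s a) = tv (pt3 hn r) (pt3 hn s) a) →
        ∀ p ∈ Z, Commute (altToSL n F p.1) (E p.2))
    (hT : ∀ τ ∈ T, (τ.1 (pt hn 0) = pt hn 2 ∧ τ.1 (pt hn 1) = pt hn 3) ∨
      (τ.1 (pt hn 0) = pt hn 3 ∧ τ.1 (pt hn 1) = pt hn 2))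
    (hcent : ∀ {G : Type} [Group G] (rho : alternatingGroup (Fin n) →* G)
      (lam : Matrix.SpecialLinearGroup (Fin 3) F →* G) (c : alternatingGroup (Fin n)),
      (∀ x, (∀ r, x ≠ pt3 hn r) → c.1 x = x) → lam cycleSL = rho c →
      (∀ p ∈ Z, Commute (rho p.1) (lam p.2)) →
      (∀ h ∈ S2, rho e * lam (corner h) * (rho e)⁻¹ = lam (corner (swapCoord h))) →
      ∀ z : alternatingGroup (Fin n), z.1 (pt hn 0) = pt hn 0 → z.1 (pt hn 1) = pt hn 1 →
        ∀ h ∈ S2, Commute (rho z) (lam (corner h)))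
    (hcov : ∀ {G : Type} [Group G] (rho : alternatingGroup (Fin n) →* G)
      (lam : Matrix.SpecialLinearGroup (Fin 3) F →* G),
      (∀ z : alternatingGroup (Fin n), z.1 (pt hn 0) = pt hn 0 → z.1 (pt hn 1) = pt hn 1 →
        ∀ a, Commute (rho z) (lam (tv 0 1 a))) →
      (∀ τ ∈ T, Commute (lam (tv 0 1 1)) (rho τ * lam (tv 0 1 1) * (rho τ)⁻¹)) →
      ∀ τ : alternatingGroup (Fin n), (τ.1 (pt hn 0) = pt hn 2 ∧ τ.1 (pt hn 1) = pt hn 3) ∨
          (τ.1 (pt hn 0) = pt hn 3 ∧ τ.1 (pt hn 1) = pt hn 2) →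
        Commute (lam (tv 0 1 1)) (rho τ * lam (tv 0 1 1) * (rho τ)⁻¹)) :
    ∃ R : Finset (FreeGroup (Fin (m + 4))),
      R.card ≤ RA.card + RB.card + (1 + Z.length + S2.length + T.length) ∧
      Nonempty (PresentedGroup (↑R : Set (FreeGroup (Fin (m + 4)))) ≃*
        Matrix.SpecialLinearGroup (Fin n) F) := by
  classical
  obtain ⟨c, hc, hcfix⟩ := exists_c hn
  obtain ⟨E3, hE3⟩ := exists_embThree (F := F) hn
  let il : alternatingGroup (Fin n) →* Monoid.Coprod (alternatingGroup (Fin n))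
      (Matrix.SpecialLinearGroup (Fin 3) F) := Monoid.Coprod.inl
  let ir : Matrix.SpecialLinearGroup (Fin 3) F →* Monoid.Coprod (alternatingGroup (Fin n))
      (Matrix.SpecialLinearGroup (Fin 3) F) := Monoid.Coprod.inr
  let X := ir (tv 0 1 1)
  let EL : List (Monoid.Coprod (alternatingGroup (Fin n)) (Matrix.SpecialLinearGroup (Fin 3) F)) :=
    [ir cycleSL * (il c)⁻¹] ++
    Z.map (fun p => il p.1 * ir p.2 * (il p.1)⁻¹ * (ir p.2)⁻¹) ++
    S2.map (fun h => il e * ir (corner h) * (il e)⁻¹ * (ir (corner (swapCoord h)))⁻¹) ++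
    T.map (fun τ => X * (il τ * X * (il τ)⁻¹) * X⁻¹ * (il τ * X * (il τ)⁻¹)⁻¹)
  refine (exists_pres_amalg RA eA RB eB EL (altToSL n F) E3 ?_ ?_ ?_).imp
    fun R hR => ⟨hR.1.trans (by simp [EL]; omega), hR.2⟩
  · obtain ⟨hm1, hm2⟩ := model_corner hn hE3
    intro w hw
    simp only [EL, List.mem_append, List.mem_singleton, List.mem_map] at hw
    rcases hw with ((rfl | ⟨p, hp, rfl⟩) | ⟨h, -, rfl⟩) | ⟨τ, hτ, rfl⟩ <;>
      simp only [il, ir, X, map_mul, map_inv, Monoid.Coprod.lift_apply_inl,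
        Monoid.Coprod.lift_apply_inr]
    · rw [embThree_cycle hn hE3 hc hcfix, mul_inv_cancel]
    · rw [(hZ E3 hE3 p hp).eq, mul_inv_cancel_right, mul_inv_cancel]
    · rw [hm2 e he0 he1, mul_inv_cancel]
    · have h01 : (0 : Fin 3) ≠ 1 := by decide
      rw [hE3 0 1 h01, show pt3 hn 0 = pt hn 0 from rfl, show pt3 hn 1 = pt hn 1 from rfl,
        altToSL_conj τ (pt_ne hn (by decide))]
      have hcomm : Commute (tv (pt hn 0) (pt hn 1) (1 : F)) (tv (τ.1 (pt hn 0)) (τ.1 (pt hn 1)) 1) := by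
        rcases hT τ hτ with ⟨e2, e3⟩ | ⟨e2, e3⟩ <;> rw [e2, e3] <;>
          exact (slSys (ι := Fin n) (F := F)).comm (pt_ne hn (by decide)) (pt_ne hn (by decide))
            (pt_ne hn (by decide)) (pt_ne hn (by decide)) 1 1
      rw [hcomm.eq, mul_inv_cancel_right, mul_inv_cancel]
  · exact model_surjective hn hE3 _ (fun g => Subgroup.mem_sup_right ⟨g, rfl⟩)
      (fun z => Subgroup.mem_sup_left ⟨z, rfl⟩)
  · intro G _ rho lam hrel
    have h1 := hrel (ir cycleSL * (il c)⁻¹) (by simp [EL])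
    have h2 : ∀ p ∈ Z, Commute (rho p.1) (lam p.2) := fun p hp => by
      have h := hrel (il p.1 * ir p.2 * (il p.1)⁻¹ * (ir p.2)⁻¹)
        (List.mem_append_left _ (List.mem_append_left _ (List.mem_append_right _
          (List.mem_map.2 ⟨p, hp, rfl⟩))))
      simp only [il, ir, map_mul, map_inv, Monoid.Coprod.lift_apply_inl,
        Monoid.Coprod.lift_apply_inr, mul_inv_eq_one] at h
      exact mul_inv_eq_iff_eq_mul.1 h
    have h3 : ∀ h ∈ S2, rho e * lam (corner h) * (rho e)⁻¹ = lam (corner (swapCoord h)) :=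
      fun g hg => by
        have h := hrel (il e * ir (corner g) * (il e)⁻¹ * (ir (corner (swapCoord g)))⁻¹)
          (List.mem_append_left _ (List.mem_append_right _ (List.mem_map.2 ⟨g, hg, rfl⟩)))
        simpa only [il, ir, map_mul, map_inv, Monoid.Coprod.lift_apply_inl,
          Monoid.Coprod.lift_apply_inr, mul_inv_eq_one] using h
    have h4 : ∀ τ ∈ T, Commute (lam (tv 0 1 1)) (rho τ * lam (tv 0 1 1) * (rho τ)⁻¹) :=
      fun τ hτ => by
        have h := hrel (X * (il τ * X * (il τ)⁻¹) * X⁻¹ * (il τ * X * (il τ)⁻¹)⁻¹)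
          (List.mem_append_right _ (List.mem_map.2 ⟨τ, hτ, rfl⟩))
        simp only [il, ir, X, map_mul, map_inv, Monoid.Coprod.lift_apply_inl,
          Monoid.Coprod.lift_apply_inr, mul_inv_eq_one] at h
        exact mul_inv_eq_iff_eq_mul.1 h
    simp only [il, ir, map_mul, map_inv, Monoid.Coprod.lift_apply_inl,
      Monoid.Coprod.lift_apply_inr, mul_inv_eq_one] at h1
    have D := glue_of hn c hc hcfix h1 e he0 he1 S2 hS2 h3 (hcent rho lam c hcfix h1 h2 h3)
      (fun hc01 => hcov rho lam hc01 h4)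
    obtain ⟨Φ, hl, hr⟩ := D.exists_lift hE3
    exact ⟨Φ, hr, hl⟩

/-- Two orientations in the list cover everything. -/
theorem cov_two {hn : 4 ≤ n} {G : Type} [Group G] {rho : alternatingGroup (Fin n) →* G}
    {lam : Matrix.SpecialLinearGroup (Fin 3) F →* G}
    (hcent : ∀ z : alternatingGroup (Fin n), z.1 (pt hn 0) = pt hn 0 → z.1 (pt hn 1) = pt hn 1 →
      ∀ a, Commute (rho z) (lam (tv 0 1 a))) {τ1 τ2 : alternatingGroup (Fin n)}
    (h1 : τ1.1 (pt hn 0) = pt hn 2 ∧ τ1.1 (pt hn 1) = pt hn 3)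
    (h2 : τ2.1 (pt hn 0) = pt hn 3 ∧ τ2.1 (pt hn 1) = pt hn 2)
    (c1 : Commute (lam (tv 0 1 1)) (rho τ1 * lam (tv 0 1 1) * (rho τ1)⁻¹))
    (c2 : Commute (lam (tv 0 1 1)) (rho τ2 * lam (tv 0 1 1) * (rho τ2)⁻¹))
    (τ : alternatingGroup (Fin n))
    (h : (τ.1 (pt hn 0) = pt hn 2 ∧ τ.1 (pt hn 1) = pt hn 3) ∨
      (τ.1 (pt hn 0) = pt hn 3 ∧ τ.1 (pt hn 1) = pt hn 2)) :
    Commute (lam (tv 0 1 1)) (rho τ * lam (tv 0 1 1) * (rho τ)⁻¹) := by
  rcases h with ⟨a, b⟩ | ⟨a, b⟩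
  · rwa [conj_eq_of_agree hn hcent (a.trans h1.1.symm) (b.trans h1.2.symm)]
  · rwa [conj_eq_of_agree hn hcent (a.trans h2.1.symm) (b.trans h2.2.symm)]

theorem sl_pres_large_card [Fintype F] (hn : 6 ≤ n) (RB : Finset (FreeGroup (Fin 4)))
    (eB : PresentedGroup (↑RB : Set (FreeGroup (Fin 4))) ≃* Matrix.SpecialLinearGroup (Fin 3) F)
    (S1 : List (Matrix.SpecialLinearGroup (Fin 3) F)) (hS1 : GenThree S1)
    (S2 : List (Matrix.SpecialLinearGroup (Fin 2) F)) (hS2 : GenTwo S2) :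
    ∃ R : Finset (FreeGroup (Fin 7)), R.card ≤ 9 + (RB.card + S1.length + S2.length) ∧
      Nonempty (PresentedGroup (↑R : Set (FreeGroup (Fin 7))) ≃*
        Matrix.SpecialLinearGroup (Fin n) F) := by
  classical
  have h4 : 4 ≤ n := by omega
  obtain ⟨RA, hRA, eA, -⟩ := (has37_all (show 5 ≤ n by omega)).2
  obtain ⟨a, e, ha, he0, he1, hgen⟩ := genPair hn
  obtain ⟨τ, hτ⟩ := exists_alt_two h4 (pt_ne h4 (show (2 : Fin 4) ≠ 3 by decide))
  refine (sl_pres h4 RA eA RB eB e he0 he1 S2 hS2 (S1.map fun g => (a, g)) [τ]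
    (fun E hE p hp => by
      obtain ⟨g, -, rfl⟩ := List.mem_map.1 hp
      exact model_commute h4 a ha hE g)
    (fun σ hσ => by rw [List.mem_singleton.1 hσ]; exact Or.inl hτ)
    ?_ ?_).imp fun R hR => ⟨hR.1.trans (by simp; omega), hR.2⟩
  · intro G _ rho lam c hcfix hlc hZ hflip z z0 z1 h hh
    have hac : a * c = c * a := by
      refine Subtype.ext (Equiv.ext fun x => ?_)
      simp only [Subgroup.coe_mul, Perm.mul_apply]
      by_cases hx : ∀ r, x ≠ pt3 h4 r
      · rw [hcfix x hx, hcfix]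
        intro r hr
        exact hx r (a.1.injective (hr.trans (ha r).symm))
      · push Not at hx
        obtain ⟨r, rfl⟩ := hx
        rw [ha r]
        by_cases hy : ∀ s, c.1 (pt3 h4 r) ≠ pt3 h4 s
        · have h' := hcfix _ hy
          have : c.1 (pt3 h4 r) = pt3 h4 r := c.1.injective h'
          rw [this, ha r]
        · push Not at hy
          obtain ⟨s, hs⟩ := hy
          rw [hs, ha s]
    have halam : ∀ g, Commute (rho a) (lam g) := by
      intro g
      suffices hle : Subgroup.closure ({g | g ∈ S1} ∪ {cycleSL}) ≤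
          (Subgroup.centralizer {rho a}).comap lam from
        (Subgroup.mem_centralizer_singleton_iff.1 (hle (hS1.symm ▸ Subgroup.mem_top g))).symm
      rw [Subgroup.closure_le]
      rintro x (hx | hx)
      · exact Subgroup.mem_centralizer_singleton_iff.2
          (hZ (a, x) (List.mem_map.2 ⟨x, hx, rfl⟩)).eq.symm
      · rw [Set.mem_singleton_iff.1 hx]
        refine Subgroup.mem_centralizer_singleton_iff.2 ?_
        rw [hlc, ← map_mul, ← map_mul, hac]
    let K : Subgroup (alternatingGroup (Fin n)) :=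
      (Subgroup.centralizer {lam (corner h)}).comap rho
    have haK : a ∈ K := Subgroup.mem_centralizer_singleton_iff.2 (halam _).eq
    have hbK : e⁻¹ * a * e ∈ K := by
      have h' := (halam (corner (swapCoord h))).map (MulAut.conj (rho e)⁻¹).toMonoidHom
      simp only [MulEquiv.toMonoidHom_eq_coe, MonoidHom.coe_coe, MulAut.conj_apply, inv_inv,
        ← hflip h hh] at h'
      refine Subgroup.mem_centralizer_singleton_iff.2 ?_
      simp only [map_mul, map_inv]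
      convert h'.eq using 1 <;> group
    have hle : Subgroup.closure {a.1, e.1⁻¹ * a.1 * e.1} ≤ K.map (alternatingGroup (Fin n)).subtype := by
      rw [Subgroup.closure_le]
      rintro x (rfl | rfl)
      · exact ⟨a, haK, rfl⟩
      · exact ⟨_, hbK, rfl⟩
    obtain ⟨w, hw, hwz⟩ := hle (hgen (mem_altOn_upper h4 z0 z1))
    rw [← Subtype.ext hwz]
    exact Subgroup.mem_centralizer_singleton_iff.1 hw
  · intro G _ rho lam hc01 hT σ hσ
    have h5 : (⟨5, by omega⟩ : Fin n) ≠ ⟨4, by omega⟩ := by simp [Fin.ext_iff]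
    let w : alternatingGroup (Fin n) := ⟨swap (pt h4 2) (pt h4 3) * swap ⟨5, by omega⟩ ⟨4, by omega⟩,
      by rw [Perm.mem_alternatingGroup, map_mul, Perm.sign_swap (pt_ne h4 (by decide)),
        Perm.sign_swap h5]; rfl⟩
    have hw : ∀ i : Fin 4, w.1 (pt h4 i) = swap (pt h4 2) (pt h4 3) (pt h4 i) := fun i => by
      show swap _ _ (swap _ _ _) = _
      have hi := i.isLt
      have hv : (pt h4 i).val = i.val := rfl
      rw [swap_apply_of_ne_of_ne (a := (⟨5, by omega⟩ : Fin n)) (b := ⟨4, by omega⟩)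
        (fun e => by rw [Fin.ext_iff, hv] at e; simp only at e; omega)
        (fun e => by rw [Fin.ext_iff, hv] at e; simp only at e; omega)]
    have c1 := hT τ List.mem_cons_self
    refine cov_two hc01 (τ1 := τ) (τ2 := w * τ) hτ ⟨?_, ?_⟩ c1 ?_ σ hσ
    · rw [Subgroup.coe_mul, Perm.mul_apply, hτ.1, hw, swap_apply_left]
    · rw [Subgroup.coe_mul, Perm.mul_apply, hτ.2, hw, swap_apply_right]
    · have hfix := hc01 w
        (by rw [hw, swap_apply_of_ne_of_ne (pt_ne h4 (by decide)) (pt_ne h4 (by decide))])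
        (by rw [hw, swap_apply_of_ne_of_ne (pt_ne h4 (by decide)) (pt_ne h4 (by decide))]) 1
      have h := c1.map (MulAut.conj (rho w)).toMonoidHom
      simp only [MulEquiv.toMonoidHom_eq_coe, MonoidHom.coe_coe, MulAut.conj_apply] at h
      rw [mul_inv_eq_iff_eq_mul.2 hfix.eq] at h
      simpa [map_mul, mul_assoc] using h

theorem sl_pres_five_card [Fintype F] (RB : Finset (FreeGroup (Fin 4)))
    (eB : PresentedGroup (↑RB : Set (FreeGroup (Fin 4))) ≃* Matrix.SpecialLinearGroup (Fin 3) F)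
    (S2 : List (Matrix.SpecialLinearGroup (Fin 2) F)) (hS2 : GenTwo S2) :
    ∃ R : Finset (FreeGroup (Fin 6)), R.card ≤ 6 + (RB.card + 2 * S2.length) ∧
      Nonempty (PresentedGroup (↑R : Set (FreeGroup (Fin 6))) ≃*
        Matrix.SpecialLinearGroup (Fin 5) F) := by
  classical
  have h4 : 4 ≤ 5 := by norm_num
  obtain ⟨RA, hRA, ⟨eA⟩⟩ := alt_five_pres
  let a : alternatingGroup (Fin 5) := ⟨tri 2 3 4, sign_tri (by decide) (by decide)⟩
  obtain ⟨e, he0, he1⟩ := exists_alt_two h4 (pt_ne h4 (show (1 : Fin 4) ≠ 0 by decide))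
  obtain ⟨τ1, hτ1⟩ := exists_alt_two h4 (pt_ne h4 (show (2 : Fin 4) ≠ 3 by decide))
  obtain ⟨τ2, hτ2⟩ := exists_alt_two h4 (pt_ne h4 (show (3 : Fin 4) ≠ 2 by decide))
  refine (sl_pres h4 RA eA RB eB e he0 he1 S2 hS2
    (S2.map fun g => (a, corner g)) [τ1, τ2]
    (fun E hE p hp => by
      obtain ⟨g, -, rfl⟩ := List.mem_map.1 hp
      exact (model_corner h4 hE).1 a (tri_other (by simp [pt, Fin.ext_iff]) (by simp [pt, Fin.ext_iff])
        (by simp [pt, Fin.ext_iff])) (tri_other (by simp [pt, Fin.ext_iff]) (by simp [pt, Fin.ext_iff])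
        (by simp [pt, Fin.ext_iff])) g)
    (fun σ hσ => by
      simp only [List.mem_cons, List.not_mem_nil, or_false] at hσ
      rcases hσ with rfl | rfl
      · exact Or.inl hτ1
      · exact Or.inr hτ2)
    ?_ (fun rho lam hc01 hT σ hσ => cov_two hc01 hτ1 hτ2 (hT _ (by simp)) (hT _ (by simp)) σ hσ)).imp
    fun R hR => ⟨hR.1.trans (by simp; omega), hR.2⟩
  · intro G _ rho lam c _ _ hZ _ z z0 z1 h hh
    let K : Subgroup (alternatingGroup (Fin 5)) :=
      (Subgroup.centralizer {lam (corner h)}).comap rho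
    have haK : a ∈ K := Subgroup.mem_centralizer_singleton_iff.2
      (hZ (a, corner h) (List.mem_map.2 ⟨h, hh, rfl⟩)).eq
    have hle : altOn (upper 5) ≤ K.map (alternatingGroup (Fin 5)).subtype := by
      refine (altOn_le_closure (a := 2) (b := 3) (by simp [upper]) (by simp [upper]) (by decide)).trans
        ((Subgroup.closure_le _).2 ?_)
      rintro _ ⟨i, hi, h2, h3, rfl⟩
      rw [mem_upper] at hi
      obtain rfl : i = 4 := by
        rw [Ne, Fin.ext_iff] at h2 h3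
        apply Fin.ext
        simp at h2 h3 ⊢
        omega
      exact ⟨a, haK, rfl⟩
    obtain ⟨w, hw, hwz⟩ := hle (mem_altOn_upper h4 z0 z1)
    rw [← Subtype.ext hwz]
    exact Subgroup.mem_centralizer_singleton_iff.1 hw

theorem sl_pres_four_card [Fintype F] (RB : Finset (FreeGroup (Fin 4)))
    (eB : PresentedGroup (↑RB : Set (FreeGroup (Fin 4))) ≃* Matrix.SpecialLinearGroup (Fin 3) F)
    (S2 : List (Matrix.SpecialLinearGroup (Fin 2) F)) (hS2 : GenTwo S2) :
    ∃ R : Finset (FreeGroup (Fin 6)), R.card ≤ 6 + (RB.card + S2.length) ∧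
      Nonempty (PresentedGroup (↑R : Set (FreeGroup (Fin 6))) ≃*
        Matrix.SpecialLinearGroup (Fin 4) F) := by
  classical
  obtain ⟨RA, hRA, ⟨eA⟩⟩ := alt_four_pres
  obtain ⟨e, he0, he1⟩ := exists_alt_two le_rfl (pt_ne le_rfl (show (1 : Fin 4) ≠ 0 by decide))
  obtain ⟨τ1, hτ1⟩ := exists_alt_two le_rfl (pt_ne le_rfl (show (2 : Fin 4) ≠ 3 by decide))
  obtain ⟨τ2, hτ2⟩ := exists_alt_two le_rfl (pt_ne le_rfl (show (3 : Fin 4) ≠ 2 by decide))
  have htriv : ∀ z : Perm (Fin 4), Perm.sign z = 1 → z 0 = 0 → z 1 = 1 → z = 1 := by decide +kernel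
  obtain ⟨R, hR, hiso⟩ := sl_pres le_rfl RA eA RB eB e he0 he1 S2 hS2 [] [τ1, τ2]
    (fun E hE p hp => by simp at hp)
    (fun σ hσ => by
      simp only [List.mem_cons, List.not_mem_nil, or_false] at hσ
      rcases hσ with rfl | rfl
      · exact Or.inl hτ1
      · exact Or.inr hτ2)
    (fun rho lam c _ _ _ _ z z0 z1 h _ => by
      rw [show z = 1 from Subtype.ext (htriv z.1 z.2 z0 z1), map_one]
      exact Commute.one_left _)
    (fun rho lam hc01 hT σ hσ => cov_two hc01 hτ1 hτ2 (hT _ (by simp)) (hT _ (by simp)) σ hσ)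
  exact ⟨R, hR.trans (by simp; omega), hiso⟩

theorem sl_pres_large [Fintype F] (hn : 6 ≤ n) (RB : Finset (FreeGroup (Fin 4)))
    (eB : PresentedGroup (↑RB : Set (FreeGroup (Fin 4))) ≃* Matrix.SpecialLinearGroup (Fin 3) F)
    (S1 : List (Matrix.SpecialLinearGroup (Fin 3) F)) (hS1 : GenThree S1)
    (S2 : List (Matrix.SpecialLinearGroup (Fin 2) F)) (hS2 : GenTwo S2)
    (hlen : RB.card + S1.length + S2.length ≤ 16) :
    ∃ R : Finset (FreeGroup (Fin 7)), R.card ≤ 25 ∧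
      Nonempty (PresentedGroup (↑R : Set (FreeGroup (Fin 7))) ≃*
        Matrix.SpecialLinearGroup (Fin n) F) :=
  (sl_pres_large_card hn RB eB S1 hS1 S2 hS2).imp fun R hR => ⟨hR.1.trans (by omega), hR.2⟩

theorem sl_pres_five [Fintype F] (RB : Finset (FreeGroup (Fin 4)))
    (eB : PresentedGroup (↑RB : Set (FreeGroup (Fin 4))) ≃* Matrix.SpecialLinearGroup (Fin 3) F)
    (S2 : List (Matrix.SpecialLinearGroup (Fin 2) F)) (hS2 : GenTwo S2)
    (hlen : RB.card + 2 * S2.length ≤ 16) :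
    ∃ R : Finset (FreeGroup (Fin 6)), R.card ≤ 22 ∧
      Nonempty (PresentedGroup (↑R : Set (FreeGroup (Fin 6))) ≃*
        Matrix.SpecialLinearGroup (Fin 5) F) :=
  (sl_pres_five_card RB eB S2 hS2).imp fun R hR => ⟨hR.1.trans (by omega), hR.2⟩

theorem sl_pres_four [Fintype F] (RB : Finset (FreeGroup (Fin 4)))
    (eB : PresentedGroup (↑RB : Set (FreeGroup (Fin 4))) ≃* Matrix.SpecialLinearGroup (Fin 3) F)
    (S2 : List (Matrix.SpecialLinearGroup (Fin 2) F)) (hS2 : GenTwo S2)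
    (hlen : RB.card + S2.length ≤ 15) :
    ∃ R : Finset (FreeGroup (Fin 6)), R.card ≤ 21 ∧
      Nonempty (PresentedGroup (↑R : Set (FreeGroup (Fin 6))) ≃*
        Matrix.SpecialLinearGroup (Fin 4) F) :=
  (sl_pres_four_card RB eB S2 hS2).imp fun R hR => ⟨hR.1.trans (by omega), hR.2⟩

section Field

theorem span_four [Fintype F] (h4 : Fintype.card F = 4) {ζ : Fˣ}
    (hζ : ∀ u : Fˣ, u ∈ Subgroup.zpowers ζ) :
    (2 : F) = 0 ∧ (ζ : F) * ζ = ζ + 1 ∧
      ∀ K : AddSubgroup F, (1 : F) ∈ K → (ζ : F) ∈ K → ∀ t, t ∈ K := by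
  classical
  have hord : orderOf ζ = 3 := by
    rw [orderOf_eq_card_of_forall_mem_zpowers hζ, Nat.card_units, Nat.card_eq_fintype_card, h4]
  have htwo : (2 : F) = 0 := by
    have h := FiniteField.cast_card_eq_zero F
    rw [h4, show ((4 : ℕ) : F) = 2 * 2 by norm_num] at h
    exact (mul_self_eq_zero).1 h
  have h3 : (ζ : F) ^ 3 = 1 := by
    rw [← hord, ← Units.val_pow_eq_pow_val, pow_orderOf_eq_one, Units.val_one]
  have hne : (ζ : F) - 1 ≠ 0 := fun h => by
    have : orderOf ζ = 1 := orderOf_eq_one_iff.2 (Units.ext (sub_eq_zero.1 h))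
    omega
  have hsq : (ζ : F) * ζ = ζ + 1 := by
    have h5 : ((ζ : F) - 1) * ((ζ : F) ^ 2 + (ζ : F) + 1) = 0 := by linear_combination h3
    linear_combination (mul_eq_zero.1 h5).resolve_left hne - ((ζ : F) + 1) * htwo
  refine ⟨htwo, hsq, fun K k1 kz t => ?_⟩
  by_cases ht : t = 0
  · subst ht; exact K.zero_mem
  obtain ⟨k, hk⟩ := mem_powers_iff_mem_zpowers.2 (hζ (Units.mk0 t ht))
  have hk' : t = (ζ : F) ^ (k % 3) := by
    rw [← Units.val_mk0 ht, ← show ζ ^ k = _ from hk, Units.val_pow_eq_pow_val]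
    conv_lhs => rw [← Nat.mod_add_div k 3, pow_add, pow_mul, h3, one_pow, mul_one]
  rw [hk']
  have : k % 3 < 3 := Nat.mod_lt _ (by norm_num)
  interval_cases h : k % 3
  · simpa using k1
  · simpa using kz
  · rw [pow_two, hsq]; exact K.add_mem kz k1

theorem nine_generator [Fintype F] (h9 : Fintype.card F = 9) :
    (3 : F) = 0 ∧ ∃ ζ : Fˣ, (∀ u : Fˣ, u ∈ Subgroup.zpowers ζ) ∧ (ζ : F) * ζ = ζ + 1 := by
  obtain ⟨ζ, hζ⟩ := IsCyclic.exists_generator (α := Fˣ)
  have hord : orderOf ζ = 8 := by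
    rw [orderOf_eq_card_of_forall_mem_zpowers hζ, Nat.card_units, Nat.card_eq_fintype_card, h9]
  have h3 : (3 : F) = 0 := by
    have h := FiniteField.cast_card_eq_zero F
    rw [h9, show ((9 : ℕ) : F) = 3 * 3 by norm_num] at h
    exact (mul_self_eq_zero).1 h
  refine ⟨h3, ?_⟩
  have h8 : (ζ : F) ^ 8 = 1 := by
    rw [← hord, ← Units.val_pow_eq_pow_val, pow_orderOf_eq_one, Units.val_one]
  have h4 : (ζ : F) ^ 4 = -1 := by
    have : ((ζ : F) ^ 4 - 1) * ((ζ : F) ^ 4 + 1) = 0 := by linear_combination h8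
    refine eq_neg_of_add_eq_zero_left ((mul_eq_zero.1 this).resolve_left fun h => ?_)
    have h' : ζ ^ 4 = 1 := Units.ext (by
      rw [Units.val_pow_eq_pow_val, Units.val_one]; exact sub_eq_zero.1 h)
    have := Nat.le_of_dvd (by norm_num) (orderOf_dvd_of_pow_eq_one h')
    omega
  have : ((ζ : F) * ζ - ζ - 1) * ((ζ : F) * ζ + ζ - 1) = 0 := by
    linear_combination h4 - (ζ : F) ^ 2 * h3
  rcases mul_eq_zero.1 this with h | h
  · exact ⟨ζ, hζ, by linear_combination h⟩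
  · refine ⟨-ζ, fun u => ?_, by rw [Units.val_neg]; linear_combination h⟩
    have hz : (-ζ) ^ 5 = ζ := Units.ext (by
      rw [Units.val_pow_eq_pow_val, Units.val_neg]
      linear_combination -(ζ : F) * h4)
    obtain ⟨k, hk⟩ := hζ u
    refine ⟨(5 : ℤ) * k, ?_⟩
    show (-ζ) ^ ((5 : ℤ) * k) = u
    rw [zpow_mul, show (5 : ℤ) = ((5 : ℕ) : ℤ) from rfl, zpow_natCast, hz]
    exact hk

theorem field_data [Fintype F] :
    ∃ (RB : Finset (FreeGroup (Fin 4)))
      (_ : PresentedGroup (↑RB : Set (FreeGroup (Fin 4))) ≃* Matrix.SpecialLinearGroup (Fin 3) F)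
      (S1 : List (Matrix.SpecialLinearGroup (Fin 3) F))
      (S2 : List (Matrix.SpecialLinearGroup (Fin 2) F)), GenThree S1 ∧ GenTwo S2 ∧
      RB.card + S1.length + S2.length ≤ 16 ∧ RB.card + 2 * S2.length ≤ 16 ∧
      RB.card + S2.length ≤ 15 := by
  classical
  obtain ⟨p, hp⟩ := CharP.exists F
  haveI := hp
  haveI : Fact p.Prime := ⟨CharP.char_is_prime F p⟩
  letI : Algebra (ZMod p) F := ZMod.algebra F p
  by_cases h2 : (2 : F) = 0
  · obtain rfl : p = 2 := by
      have : p ∣ 2 := (CharP.cast_eq_zero_iff F p 2).1 (by exact_mod_cast h2)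
      exact (Nat.prime_dvd_prime_iff_eq (Fact.out : p.Prime) Nat.prime_two).1 this
    obtain ⟨ζ, hζ⟩ := IsCyclic.exists_generator (α := Fˣ)
    obtain ⟨L2, hlen, hsat, hprop⟩ := Cfsg.Agent.S2286.sl_rels_two hζ
    by_cases h4 : Fintype.card F = 4
    · obtain ⟨-, ht, hspan⟩ := span_four h4 hζ
      obtain ⟨RB, hc, ⟨eB⟩⟩ := Cfsg.Agent.S2287.pres3 2 hζ L2 hsat hprop [1, (ζ : F)]
        (fun K _ hS t => hspan K (hS (by simp)) (hS (by simp)) t)
      refine ⟨RB, eB, _, _, genThree_four hspan, genTwo_four hζ h2 ht, ?_⟩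
      simp at hc ⊢
      omega
    · obtain ⟨RB, hc, ⟨eB⟩⟩ := Cfsg.Agent.S2287.pres3 2 hζ L2 hsat hprop [1]
        (fun K hK hS t => all_mem_of_mul_closed hζ 3 (Or.inr ⟨rfl, h4⟩) K hK (hS (by simp)) t)
      refine ⟨RB, eB, _, _, genThree_generic hζ h4, genTwo_even hζ, ?_⟩
      simp at hc ⊢
      omega
  · obtain ⟨ζ, hζ, hS⟩ : ∃ ζ : Fˣ, (∀ u : Fˣ, u ∈ Subgroup.zpowers ζ) ∧
        ∃ h : Matrix.SpecialLinearGroup (Fin 2) F, GenTwo [h] := by
      by_cases h9 : Fintype.card F = 9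
      · obtain ⟨h3, ζ, hζ, ht⟩ := nine_generator h9
        exact ⟨ζ, hζ, _, genTwo_nine hζ h3 ht⟩
      · obtain ⟨ζ, hζ⟩ := IsCyclic.exists_generator (α := Fˣ)
        exact ⟨ζ, hζ, _, genTwo_odd p hζ h2 h9⟩
    obtain ⟨h, hh⟩ := hS
    have h4 : Fintype.card F ≠ 4 := fun e => h2 (span_four e hζ).1
    obtain ⟨L2, hlen, hsat, hprop⟩ := Cfsg.Agent.S2286.sl_rels p hζ
    obtain ⟨RB, hc, ⟨eB⟩⟩ := Cfsg.Agent.S2287.pres3 p hζ L2 hsat hprop [1]
      (fun K hK hS t => all_mem_of_mul_closed hζ 3 (Or.inr ⟨rfl, h4⟩) K hK (hS (by simp)) t)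
    refine ⟨RB, eB, _, _, genThree_generic hζ h4, hh, ?_⟩
    simp at hc ⊢
    omega

/-- Seven generators, twenty five relations. -/
theorem sl_seven [Fintype F] (hn : 4 ≤ n) :
    ∃ R : Finset (FreeGroup (Fin 7)), R.card ≤ 25 ∧
      Nonempty (PresentedGroup (↑R : Set (FreeGroup (Fin 7))) ≃*
        Matrix.SpecialLinearGroup (Fin n) F) := by
  obtain ⟨RB, eB, S1, S2, h1, h2, l1, l2, l3⟩ := field_data (F := F)
  by_cases h6 : 6 ≤ n
  · exact sl_pres_large h6 RB eB S1 h1 S2 h2 l1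
  obtain ⟨R, hR, ⟨e⟩⟩ : ∃ R : Finset (FreeGroup (Fin 6)), R.card ≤ 24 ∧
      Nonempty (PresentedGroup (↑R : Set (FreeGroup (Fin 6))) ≃*
        Matrix.SpecialLinearGroup (Fin n) F) := by
    rcases (show n = 4 ∨ n = 5 by omega) with rfl | rfl
    · obtain ⟨R, hR, he⟩ := sl_pres_four RB eB S2 h2 l3
      exact ⟨R, by omega, he⟩
    · obtain ⟨R, hR, he⟩ := sl_pres_five RB eB S2 h2 l2
      exact ⟨R, by omega, he⟩
  obtain ⟨R', hR', he'⟩ := exists_pres_pad R e
  exact ⟨R', by omega, he'⟩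

theorem psl_of_sl [Fintype F] {m k : ℕ} (hn : 0 < n) (R : Finset (FreeGroup (Fin m)))
    (hR : R.card ≤ k) (e : PresentedGroup (↑R : Set (FreeGroup (Fin m))) ≃*
      Matrix.SpecialLinearGroup (Fin n) F) :
    ∃ R' : Finset (FreeGroup (Fin m)), R'.card ≤ k + 1 ∧
      Nonempty (PresentedGroup (↑R' : Set (FreeGroup (Fin m))) ≃*
        Matrix.ProjectiveSpecialLinearGroup (Fin n) F) := by
  haveI : IsCyclic (Subgroup.center (Matrix.SpecialLinearGroup (Fin n) F)) :=
    isCyclic_of_surjective _ (Matrix.SpecialLinearGroup.center_equiv_rootsOfUnity'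
      (n := Fin n) (R := F) ⟨0, hn⟩).symm.surjective
  obtain ⟨z, hz⟩ := IsCyclic.exists_generator (α := Subgroup.center (Matrix.SpecialLinearGroup (Fin n) F))
  obtain ⟨R', hR', he⟩ := exists_pres_quot R e (Subgroup.center _) z.1 z.2 fun x hx => by
    obtain ⟨i, hi⟩ := hz ⟨x, hx⟩
    exact ⟨i, by rw [← Subgroup.coe_zpow]; exact congrArg Subtype.val hi⟩
  exact ⟨R', hR'.trans (Nat.add_le_add_right hR 1), he⟩

end Field

end CfsgLib.SLPres77
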