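import Mathlib
import Cfsg.Agent.SLPres77.Relations

/-!
`SL₃` is generated by two elements.
-/

set_option autoImplicit false

namespace CfsgLib.SLPres77

open CfsgLib.SteinbergSL CfsgLib.SLThreePres

variable {F : Type*} [Field F]

theorem sl_three_two_generated [Fintype F] :
    ∃ u v : Matrix.SpecialLinearGroup (Fin 3) F,
      Subgroup.closure ({u, v} : Set (Matrix.SpecialLinearGroup (Fin 3) F)) = ⊤ := by
  obtain ⟨ζ, hζ⟩ := IsCyclic.exists_generator (α := Fˣ)
  by_cases h4 : Fintype.card F ≠ 4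
  · refine ⟨torusThree ζ * tv (0 : Fin 3) 2 1, cycleSL, Eq.trans ?_ (genThree_generic hζ h4)⟩
    congr 1
    ext x
    simp [Set.mem_insert_iff, or_comm]
  rw [not_not] at h4
  obtain ⟨htwo, hzz, hspan⟩ := span_four h4 hζ
  set z : F := (ζ : F) with hz
  have hadd : ∀ a : F, a + a = 0 := fun a => by linear_combination a * htwo
  let g : Matrix.SpecialLinearGroup (Fin 3) F :=
    ⟨!![1, z, 0; 0, 1, 0; 1, 0, 1], by simp [Matrix.det_fin_three]⟩
  let gi : Matrix.SpecialLinearGroup (Fin 3) F :=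
    ⟨!![1, z, 0; 0, 1, 0; 1, z, 1], by simp [Matrix.det_fin_three]⟩
  have hgi : gi = g⁻¹ := eq_inv_of_mul_eq_one_left (by
    apply Subtype.ext
    rw [Matrix.SpecialLinearGroup.coe_mul, Matrix.SpecialLinearGroup.coe_one]
    simp [g, gi, Matrix.mul_fin_three, Matrix.one_fin_three, hadd])
  have hci : ((cycleSL : Matrix.SpecialLinearGroup (Fin 3) F)⁻¹).1 = !![0, 1, 0; 0, 0, 1; 1, 0, 0] :=
    coe_cycleSL_inv
  have A0 : (g : Matrix.SpecialLinearGroup (Fin 3) F).1 = !![1, z, 0; 0, 1, 0; 1, 0, 1] := by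
    simp [g, cycleSL]
  have A1 : (g * cycleSL⁻¹).1 = !![0, 1, z; 0, 0, 1; 1, 1, 0] := by
    rw [Matrix.SpecialLinearGroup.coe_mul, A0]
    try rw [hci]
    simp [g, gi, cycleSL, Matrix.mul_fin_three, hzz, htwo, hadd]
    try grind
  have A2 : (g * cycleSL⁻¹ * g).1 = !![z, 1, z; 1, 0, 1; 1, (z + 1), 0] := by
    rw [Matrix.SpecialLinearGroup.coe_mul, A1]
    try rw [hci]
    simp [g, gi, cycleSL, Matrix.mul_fin_three, hzz, htwo, hadd]
    try grind
  have A3 : (g * cycleSL⁻¹ * g * g).1 = !![0, z, z; 0, z, 1; 1, 1, 0] := by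
    rw [Matrix.SpecialLinearGroup.coe_mul, A2]
    try rw [hci]
    simp [g, gi, cycleSL, Matrix.mul_fin_three, hzz, htwo, hadd]
    try grind
  have A4 : (g * cycleSL⁻¹ * g * g * cycleSL).1 = !![z, z, 0; z, 1, 0; 1, 0, 1] := by
    rw [Matrix.SpecialLinearGroup.coe_mul, A3]
    try rw [hci]
    simp [g, gi, cycleSL, Matrix.mul_fin_three, hzz, htwo, hadd]
    try grind
  have A5 : (g * cycleSL⁻¹ * g * g * cycleSL * g).1 = !![z, 1, 0; z, z, 0; 0, z, 1] := by
    rw [Matrix.SpecialLinearGroup.coe_mul, A4]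
    try rw [hci]
    simp [g, gi, cycleSL, Matrix.mul_fin_three, hzz, htwo, hadd]
    try grind
  have A6 : (g * cycleSL⁻¹ * g * g * cycleSL * g * cycleSL⁻¹).1 = !![0, z, 1; 0, z, z; 1, 0, z] := by
    rw [Matrix.SpecialLinearGroup.coe_mul, A5]
    try rw [hci]
    simp [g, gi, cycleSL, Matrix.mul_fin_three, hzz, htwo, hadd]
    try grind
  have A7 : (g * cycleSL⁻¹ * g * g * cycleSL * g * cycleSL⁻¹ * g).1 = !![1, z, 1; z, z, z; (z + 1), z, z] := by
    rw [Matrix.SpecialLinearGroup.coe_mul, A6]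
    try rw [hci]
    simp [g, gi, cycleSL, Matrix.mul_fin_three, hzz, htwo, hadd]
    try grind
  have A8 : (g * cycleSL⁻¹ * g * g * cycleSL * g * cycleSL⁻¹ * g * g).1 = !![0, 0, 1; 0, 1, z; 1, (z + 1), z] := by
    rw [Matrix.SpecialLinearGroup.coe_mul, A7]
    try rw [hci]
    simp [g, gi, cycleSL, Matrix.mul_fin_three, hzz, htwo, hadd]
    try grind
  have A9 : (g * cycleSL⁻¹ * g * g * cycleSL * g * cycleSL⁻¹ * g * g * cycleSL).1 = !![0, 1, 0; 1, z, 0; (z + 1), z, 1] := by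
    rw [Matrix.SpecialLinearGroup.coe_mul, A8]
    try rw [hci]
    simp [g, gi, cycleSL, Matrix.mul_fin_three, hzz, htwo, hadd]
    try grind
  have A10 : (g * cycleSL⁻¹ * g * g * cycleSL * g * cycleSL⁻¹ * g * g * cycleSL * gi).1 = !![0, 1, 0; 1, 0, 0; z, 1, 1] := by
    rw [Matrix.SpecialLinearGroup.coe_mul, A9]
    try rw [hci]
    simp [g, gi, cycleSL, Matrix.mul_fin_three, hzz, htwo, hadd]
    try grind
  have A11 : (g * cycleSL⁻¹ * g * g * cycleSL * g * cycleSL⁻¹ * g * g * cycleSL * gi * cycleSL⁻¹).1 = !![0, 0, 1; 0, 1, 0; 1, z, 1] := by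
    rw [Matrix.SpecialLinearGroup.coe_mul, A10]
    try rw [hci]
    simp [g, gi, cycleSL, Matrix.mul_fin_three, hzz, htwo, hadd]
    try grind
  have A12 : (g * cycleSL⁻¹ * g * g * cycleSL * g * cycleSL⁻¹ * g * g * cycleSL * gi * cycleSL⁻¹ * g).1 = !![1, 0, 1; 0, 1, 0; 0, 0, 1] := by
    rw [Matrix.SpecialLinearGroup.coe_mul, A11]
    try rw [hci]
    simp [g, gi, cycleSL, Matrix.mul_fin_three, hzz, htwo, hadd]
    try grind
  have B0 : (cycleSL : Matrix.SpecialLinearGroup (Fin 3) F).1 = !![0, 0, 1; 1, 0, 0; 0, 1, 0] := by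
    simp [g, cycleSL]
  have B1 : (cycleSL * g).1 = !![1, 0, 1; 1, z, 0; 0, 1, 0] := by
    rw [Matrix.SpecialLinearGroup.coe_mul, B0]
    try rw [hci]
    simp [g, gi, cycleSL, Matrix.mul_fin_three, hzz, htwo, hadd]
    try grind
  have B2 : (cycleSL * g * g).1 = !![0, z, 1; 1, 0, 0; 0, 1, 0] := by
    rw [Matrix.SpecialLinearGroup.coe_mul, B1]
    try rw [hci]
    simp [g, gi, cycleSL, Matrix.mul_fin_three, hzz, htwo, hadd]
    try grind
  have B3 : (cycleSL * g * g * cycleSL⁻¹).1 = !![1, 0, z; 0, 1, 0; 0, 0, 1] := by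
    rw [Matrix.SpecialLinearGroup.coe_mul, B2]
    try rw [hci]
    simp [g, gi, cycleSL, Matrix.mul_fin_three, hzz, htwo, hadd]
    try grind

  refine ⟨g, cycleSL, ?_⟩
  set K := Subgroup.closure ({g, cycleSL} : Set (Matrix.SpecialLinearGroup (Fin 3) F)) with hK
  have kg : g ∈ K := Subgroup.subset_closure (Or.inl rfl)
  have kc : cycleSL ∈ K := Subgroup.subset_closure (Or.inr rfl)
  have kgi : gi ∈ K := hgi ▸ K.inv_mem kg
  have kci := K.inv_mem kc
  have eA : g * cycleSL⁻¹ * g * g * cycleSL * g * cycleSL⁻¹ * g * g * cycleSL * gi * cycleSL⁻¹ * g = tv (0 : Fin 3) 2 (1 : F) := by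
    apply Subtype.ext
    rw [A12]
    ext i j
    fin_cases i <;> fin_cases j <;> simp [tv, CfsgLib.Classical.Linear.transvection_apply]
  have eB : cycleSL * g * g * cycleSL⁻¹ = tv (0 : Fin 3) 2 z := by
    apply Subtype.ext
    rw [B3]
    ext i j
    fin_cases i <;> fin_cases j <;> simp [tv, CfsgLib.Classical.Linear.transvection_apply]
  rw [eq_top_iff, ← genThree_four (ζ := ζ) hspan, Subgroup.closure_le]
  rintro x (hx | rfl)
  · simp only [Set.mem_setOf_eq, List.mem_cons, List.not_mem_nil, or_false] at hx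
    rcases hx with rfl | rfl
    · rw [SetLike.mem_coe, ← eA]
      apply_rules [K.mul_mem]
    · rw [SetLike.mem_coe, ← eB]
      apply_rules [K.mul_mem]
  · exact kc

end CfsgLib.SLPres77
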